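import Cfsg.Agent.H411.PrA.Defs

/-!
# S3618, part A, RANK3 (plan `tools/plans/S3618_A.md` section 3.2; helper35)
-/

set_option autoImplicit false

open Equiv Equiv.Perm MulAction Cfsg.Agent.H411.PrA
open scoped Pointwise

namespace Cfsg.Agent.H35.PrA

universe u v

variable {Ω : Type u} [Fintype Ω] [DecidableEq Ω] {p q : ℕ} {K : Subgroup (Perm Ω)}

omit [Fintype Ω] [DecidableEq Ω] in
theorem ias (k : Perm Ω) (c : Ω) : k⁻¹ (k c) = c := by simp

/-- the statement `Setup.exists_normalizer` -/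
def NormSt (p : ℕ) (K : Subgroup (Perm Ω)) : Prop :=
  ∀ (H : Subgroup (Perm Ω)), H ≤ K → ∀ x ∈ H, orderOf x = p → ∀ b : Ω, x b = b → ∀ k ∈ H, x (k b) = k b →
    ∃ n ∈ H, n b = k b ∧ n * x * n⁻¹ ∈ Subgroup.zpowers x

theorem mem_orb {a b c : Ω} : c ∈ orb p K a b ↔ ∃ m ∈ M p K a, m b = c := by
  simp only [orb, Finset.mem_filter, Finset.mem_univ, true_and]

theorem M_le (a : Ω) : M p K a ≤ K := by
  unfold M
  rw [Subgroup.closure_le]
  rintro x ⟨hx, -⟩
  exact hx

theorem M_fix {a : Ω} {m : Perm Ω} (hm : m ∈ M p K a) : m a = a := by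
  have h1 : M p K a ≤ MulAction.stabilizer (Perm Ω) a := by
    unfold M
    rw [Subgroup.closure_le]
    rintro x ⟨-, -, hx⟩
    exact hx
  exact h1 hm

theorem M_conj {a : Ω} {k m : Perm Ω} (hk : k ∈ K) (hka : k a = a) (hm : m ∈ M p K a) : k * m * k⁻¹ ∈ M p K a := by
  have hka' : k⁻¹ a = a := by rw [Perm.inv_eq_iff_eq, hka]
  unfold M at hm ⊢
  induction hm using Subgroup.closure_induction with
  | mem x hx =>
    obtain ⟨h1, h2, h3⟩ := hx
    refine Subgroup.subset_closure ⟨K.mul_mem (K.mul_mem hk h1) (K.inv_mem hk), ?_, ?_⟩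
    · have h4 : orderOf (k * x * k⁻¹) = orderOf x := by
        have := MulAut.conj_apply k x
        rw [← this]
        exact MulEquiv.orderOf_eq (MulAut.conj k) x
      rw [h4, h2]
    · rw [Perm.mul_apply, Perm.mul_apply, hka', h3, hka]
  | one =>
    rw [mul_one, mul_inv_cancel]
    exact Subgroup.one_mem _
  | mul x y _ _ hx hy =>
    have : k * (x * y) * k⁻¹ = k * x * k⁻¹ * (k * y * k⁻¹) := by group
    rw [this]
    exact Subgroup.mul_mem _ hx hy
  | inv x _ hx =>
    have : k * x⁻¹ * k⁻¹ = (k * x * k⁻¹)⁻¹ := by group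
    rw [this]
    exact Subgroup.inv_mem _ hx

/-- an element fixing `a` maps orbits to orbits -/
theorem image_orb {a : Ω} {k : Perm Ω} (hk : k ∈ K) (hka : k a = a) (b : Ω) :
    (orb p K a b).map k.toEmbedding = orb p K a (k b) := by
  have hka' : k⁻¹ a = a := by rw [Perm.inv_eq_iff_eq, hka]
  ext c
  rw [Finset.mem_map]
  constructor
  · rintro ⟨d, hd, rfl⟩
    obtain ⟨m, hm, rfl⟩ := mem_orb.1 hd
    refine mem_orb.2 ⟨k * m * k⁻¹, M_conj hk hka hm, ?_⟩
    simp
  · intro hc
    obtain ⟨m, hm, rfl⟩ := mem_orb.1 hc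
    refine ⟨(k⁻¹ * m * k) b, mem_orb.2 ⟨k⁻¹ * m * k, ?_, rfl⟩, ?_⟩
    · have := M_conj (K.inv_mem hk) hka' hm
      rwa [inv_inv] at this
    · simp

theorem orb_eq {a b c : Ω} (h : c ∈ orb p K a b) : orb p K a c = orb p K a b := by
  obtain ⟨m, hm, rfl⟩ := mem_orb.1 h
  ext d
  rw [mem_orb, mem_orb]
  constructor
  · rintro ⟨n, hn, rfl⟩
    exact ⟨n * m, Subgroup.mul_mem _ hn hm, rfl⟩
  · rintro ⟨n, hn, rfl⟩
    exact ⟨n * m⁻¹, Subgroup.mul_mem _ hn (Subgroup.inv_mem _ hm), by simp⟩

theorem self_mem_orb (a b : Ω) : b ∈ orb p K a b := mem_orb.2 ⟨1, Subgroup.one_mem _, rfl⟩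

/-- elements normalizing `⟨x⟩` preserve the fixed points of `x` -/
theorem norm_fix {x n : Perm Ω} (hxp : orderOf x = p) (hp : 0 < p) (h : n * x * n⁻¹ ∈ Subgroup.zpowers x) (c : Ω) :
    x (n c) = n c ↔ x c = c := by
  have hpow : ∀ (y : Perm Ω) (i : ℤ) (d : Ω), y d = d → (y ^ i) d = d := fun y i d hd => zpow_apply_eq_self_of_apply_eq_self hd i
  constructor
  · intro h1
    obtain ⟨j, hj⟩ := h
    have h2 : (n * x * n⁻¹) (n c) = n c := by
      rw [← hj]
      exact hpow x j _ h1
    rw [Perm.mul_apply, Perm.mul_apply, ias] at h2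
    exact n.injective h2
  · intro h1
    have h2 : Subgroup.zpowers (n * x * n⁻¹) ≤ Subgroup.zpowers x := by
      rw [Subgroup.zpowers_le]
      exact h
    have h3 : orderOf (n * x * n⁻¹) = orderOf x := MulEquiv.orderOf_eq (MulAut.conj n) x
    have h4 : Subgroup.zpowers (n * x * n⁻¹) = Subgroup.zpowers x := by
      refine Subgroup.eq_of_le_of_card_ge h2 ?_
      rw [Nat.card_zpowers, Nat.card_zpowers, h3]
    have h5 : x ∈ Subgroup.zpowers (n * x * n⁻¹) := by
      rw [h4]
      exact Subgroup.mem_zpowers x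
    obtain ⟨i, hi⟩ := h5
    have hi' : (n * x * n⁻¹) ^ i = x := hi
    have h6 : (n * x * n⁻¹) (n c) = n c := by
      rw [Perm.mul_apply, Perm.mul_apply, ias, h1]
    calc x (n c) = ((n * x * n⁻¹) ^ i) (n c) := by rw [hi']
      _ = n c := hpow _ i _ h6

theorem rank3_of (hN : NormSt p K) (h : Setup p q K) (a b₁ b₂ : Ω) (hb₁ : b₁ ≠ a) (hb₂ : b₂ ≠ a) (x : Perm Ω)
    (hx : x ∈ K) (hxp : orderOf x = p) (hxa : x a = a) (hΩ : ∀ c, c = a ∨ c ∈ orb p K a b₁ ∨ c ∈ orb p K a b₂)
    (hne : b₂ ∉ orb p K a b₁) (h2t : Two p K a (orb p K a b₁))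
    (hlt : (orb p K a b₁).card < (orb p K a b₂).card) (hf₁ : fx x (orb p K a b₁) = 2)
    (hf₂ : 3 ≤ fx x (orb p K a b₂)) : False := by
  classical
  have hp := h.prime
  have hprim := h.prim
  have hxM : x ∈ M p K a := Subgroup.subset_closure ⟨hx, hxp, hxa⟩
  set O₁ := orb p K a b₁ with hO₁
  set O₂ := orb p K a b₂ with hO₂
  have haO : ∀ b, b ≠ a → a ∉ orb p K a b := by
    intro b hb ha
    obtain ⟨m, hm, h1⟩ := mem_orb.1 ha
    apply hb
    have h2 := M_fix hm
    exact m.injective (h1.trans h2.symm)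
  have hdisj : ∀ c, c ∈ O₁ → c ∉ O₂ := by
    intro c h1 h2
    apply hne
    rw [hO₁, ← orb_eq h1, orb_eq h2]
    exact self_mem_orb a b₂
  -- the stabilizer of `a` preserves `O₁`
  have hinv : ∀ k ∈ K, k a = a → ∀ c, k c ∈ O₁ ↔ c ∈ O₁ := by
    have h1 : ∀ k ∈ K, k a = a → ∀ c ∈ O₁, k c ∈ O₁ := by
      intro k hk hka c hc
      have hca : c ≠ a := by
        rintro rfl
        exact haO b₁ hb₁ hc
      have hkc : k c ≠ a := fun h' => hca (k.injective (h'.trans hka.symm))
      rcases hΩ (k c) with h2 | h2 | h2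
      · exact absurd h2 hkc
      · exact h2
      · exfalso
        have h3 := image_orb (p := p) hk hka c
        rw [orb_eq hc, orb_eq h2] at h3
        have h4 := congrArg Finset.card h3
        rw [Finset.card_map] at h4
        exact absurd h4 hlt.ne
    intro k hk hka c
    constructor
    · intro hc
      have hka' : k⁻¹ a = a := by rw [Perm.inv_eq_iff_eq, hka]
      have := h1 k⁻¹ (K.inv_mem hk) hka' (k c) hc
      rwa [ias] at this
    · exact h1 k hk hka c
  -- the relation
  let R : Ω → Ω → Prop := fun c d => ∃ g ∈ K, g c = a ∧ g d ∈ O₁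
  have hRa : ∀ d, R a d ↔ d ∈ O₁ := by
    intro d
    constructor
    · rintro ⟨g, hg, h1, h2⟩
      exact (hinv g hg h1 d).1 h2
    · intro hd
      exact ⟨1, K.one_mem, rfl, hd⟩
  have hRinv : ∀ k ∈ K, ∀ c d, R (k c) (k d) ↔ R c d := by
    intro k hk c d
    constructor
    · rintro ⟨g, hg, h1, h2⟩
      exact ⟨g * k, K.mul_mem hg hk, h1, h2⟩
    · rintro ⟨g, hg, h1, h2⟩
      refine ⟨g * k⁻¹, K.mul_mem hg (K.inv_mem hk), ?_, ?_⟩
      · rw [Perm.mul_apply, ias, h1]
      · rw [Perm.mul_apply, ias]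
        exact h2
  have htrans : ∀ c : Ω, ∃ k ∈ K, k a = c := by
    intro c
    obtain ⟨k, hk⟩ := MulAction.exists_smul_eq K a c
    exact ⟨k.1, k.2, hk⟩
  have hirr : ∀ c, ¬ R c c := by
    intro c
    obtain ⟨k, hk, rfl⟩ := htrans c
    rw [hRinv k hk, hRa]
    exact haO b₁ hb₁
  -- symmetry
  have hsymm : ∀ c d, R c d → R d c := by
    by_contra hcon
    push Not at hcon
    obtain ⟨c, d, h1, h2⟩ := hcon
    obtain ⟨k, hk, rfl⟩ := htrans c
    obtain ⟨d, rfl⟩ := k.surjective d
    rw [hRinv k hk] at h1 h2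
    rw [hRa] at h1
    -- no element of `O₁` is related to `a`
    have h3 : ∀ e ∈ O₁, ¬ R e a := by
      intro e he h4
      have h5 : e ∈ orb p K a d := by rw [orb_eq h1]; exact he
      obtain ⟨m, hm, rfl⟩ := mem_orb.1 h5
      apply h2
      have h6 := M_fix hm
      rw [← hRinv m (M_le a hm), h6]
      exact h4
    -- the number of neighbours
    have h4 : ∀ e, (Finset.univ.filter fun f => R e f).card = O₁.card := by
      intro e
      obtain ⟨k', hk', rfl⟩ := htrans e
      have : (Finset.univ.filter fun f => R (k' a) f) = O₁.map k'.toEmbedding := by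
        ext f
        obtain ⟨f, rfl⟩ := k'.surjective f
        rw [Finset.mem_filter, Finset.mem_map]
        constructor
        · rintro ⟨-, h5⟩
          rw [hRinv k' hk', hRa] at h5
          exact ⟨f, h5, rfl⟩
        · rintro ⟨f', h5, h6⟩
          have h7 : f' = f := k'.injective h6
          subst h7
          refine ⟨Finset.mem_univ _, ?_⟩
          rw [hRinv k' hk', hRa]
          exact h5
      rw [this, Finset.card_map]
    have h5 : ∀ e, (Finset.univ.filter fun f => R f e).card = (Finset.univ.filter fun f => R f a).card := by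
      intro e
      obtain ⟨k', hk', rfl⟩ := htrans e
      have : (Finset.univ.filter fun f => R f (k' a)) = (Finset.univ.filter fun f => R f a).map k'.toEmbedding := by
        ext f
        obtain ⟨f, rfl⟩ := k'.surjective f
        rw [Finset.mem_filter, Finset.mem_map]
        constructor
        · rintro ⟨-, h5⟩
          rw [hRinv k' hk'] at h5
          exact ⟨f, Finset.mem_filter.2 ⟨Finset.mem_univ _, h5⟩, rfl⟩
        · rintro ⟨f', h5, h6⟩
          have h7 : f' = f := k'.injective h6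
          subst h7
          refine ⟨Finset.mem_univ _, ?_⟩
          rw [hRinv k' hk']
          exact (Finset.mem_filter.1 h5).2
      rw [this, Finset.card_map]
    have h6 := Finset.sum_card_bipartiteAbove_eq_sum_card_bipartiteBelow (s := (Finset.univ : Finset Ω))
      (t := (Finset.univ : Finset Ω)) R
    have h7 : ∀ e : Ω, ((Finset.univ : Finset Ω).bipartiteAbove R e).card = O₁.card := h4
    have h8 : ∀ e : Ω, ((Finset.univ : Finset Ω).bipartiteBelow R e).card = (Finset.univ.filter fun f => R f a).card := h5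
    rw [Finset.sum_congr rfl fun e _ => h7 e, Finset.sum_congr rfl fun e _ => h8 e, Finset.sum_const,
      Finset.sum_const, smul_eq_mul, smul_eq_mul] at h6
    have h9 : 0 < (Finset.univ : Finset Ω).card := Finset.card_pos.2 ⟨a, Finset.mem_univ a⟩
    have h10 := Nat.eq_of_mul_eq_mul_left h9 h6
    -- some `e` with `R e a`
    have h11 : 0 < (Finset.univ.filter fun f => R f a).card := by
      rw [← h10]
      exact Finset.card_pos.2 ⟨d, h1⟩
    obtain ⟨e, he⟩ := Finset.card_pos.1 h11
    have he' : R e a := (Finset.mem_filter.1 he).2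
    have heO : e ∈ O₂ := by
      rcases hΩ e with h12 | h12 | h12
      · exact absurd (h12 ▸ he' : R a a) (hirr a)
      · exact absurd he' (h3 e h12)
      · exact h12
    have h12 : O₂ ⊆ Finset.univ.filter fun f => R f a := by
      intro f hf
      have h13 : f ∈ orb p K a e := by rw [orb_eq heO]; exact hf
      obtain ⟨m, hm, rfl⟩ := mem_orb.1 h13
      refine Finset.mem_filter.2 ⟨Finset.mem_univ _, ?_⟩
      have h14 := M_fix hm
      rw [← hRinv m (M_le a hm), h14] at he'
      exact he'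
    have h13 := Finset.card_le_card h12
    rw [← h10] at h13
    exact absurd hlt (not_lt.2 h13)
  -- the neighbours fixed by `x`
  let nb : Ω → Finset Ω := fun c => Finset.univ.filter fun d => R c d ∧ x d = d
  have mem_nb : ∀ c d, d ∈ nb c ↔ R c d ∧ x d = d := fun c d => by
    show d ∈ Finset.univ.filter _ ↔ _
    rw [Finset.mem_filter]
    simp
  have hnba : (nb a).card = 2 := by
    rw [← hf₁]
    unfold fx
    congr 1
    ext d
    rw [mem_nb, hRa, Finset.mem_filter]
  have hnbn : ∀ n ∈ K, n * x * n⁻¹ ∈ Subgroup.zpowers x → ∀ c, nb (n c) = (nb c).map n.toEmbedding := by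
    intro n hn hnx c
    ext d
    obtain ⟨d, rfl⟩ := n.surjective d
    rw [mem_nb, Finset.mem_map, hRinv n hn, norm_fix hxp hp.pos hnx]
    constructor
    · intro h1
      exact ⟨d, (mem_nb c d).2 h1, rfl⟩
    · rintro ⟨d', h1, h2⟩
      have h3 : d' = d := n.injective h2
      subst h3
      exact (mem_nb c d').1 h1
  have hnb : ∀ c, x c = c → (nb c).card = 2 := by
    intro c hc
    obtain ⟨k, hk, hkc⟩ := htrans c
    obtain ⟨n, hn, hn1, hn2⟩ := hN K le_rfl x hx hxp a hxa k hk (by rw [hkc, hc])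
    rw [← hkc, ← hn1, hnbn n hn hn2, Finset.card_map, hnba]
  obtain ⟨b, b', hbb, hnbab⟩ := Finset.card_eq_two.1 hnba
  have hb : R a b ∧ x b = b := (mem_nb a b).1 (by rw [hnbab]; simp)
  have hb' : R a b' ∧ x b' = b' := (mem_nb a b').1 (by rw [hnbab]; simp)
  have hbO : b ∈ O₁ := (hRa b).1 hb.1
  have hbO' : b' ∈ O₁ := (hRa b').1 hb'.1
  -- `b` and `b'` are related
  have hRbb : R b b' := by
    by_contra hcon
    have hab : a ∈ nb b := (mem_nb b a).2 ⟨hsymm _ _ hb.1, hxa⟩
    have hab' : a ∈ nb b' := (mem_nb b' a).2 ⟨hsymm _ _ hb'.1, hxa⟩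
    have h1 : ((nb b).erase a).card = 1 := by rw [Finset.card_erase_of_mem hab, hnb b hb.2]
    have h2 : ((nb b').erase a).card = 1 := by rw [Finset.card_erase_of_mem hab', hnb b' hb'.2]
    obtain ⟨z, hz⟩ := Finset.card_eq_one.1 h1
    have hz1 : z ∈ (nb b).erase a := by rw [hz]; simp
    have hza : z ≠ a := (Finset.mem_erase.1 hz1).1
    have hz2 := (mem_nb b z).1 (Finset.mem_erase.1 hz1).2
    have hzO : z ∈ O₂ := by
      rcases hΩ z with h3 | h3 | h3
      · exact absurd h3 hza
      · exfalso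
        have h4 : z ∈ nb a := (mem_nb a z).2 ⟨(hRa z).2 h3, hz2.2⟩
        rw [hnbab, Finset.mem_insert, Finset.mem_singleton] at h4
        rcases h4 with rfl | rfl
        · exact hirr _ hz2.1
        · exact hcon hz2.1
      · exact h3
    have h3 : (O₂.filter fun c => x c = c) ⊆ (nb b).erase a ∪ (nb b').erase a := by
      intro w hw
      rw [Finset.mem_filter] at hw
      have h4 : w ∈ orb p K a z := by rw [orb_eq hzO]; exact hw.1
      obtain ⟨m, hm, rfl⟩ := mem_orb.1 h4
      obtain ⟨n, hn, hn1, hn2⟩ := hN (M p K a) (M_le a) x hxM hxp z hz2.2 m hm hw.2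
      have hnK := M_le a hn
      have hna := M_fix hn
      have h5 : n b ∈ nb a := by
        have h6 := hnbn n hnK hn2 a
        rw [hna] at h6
        rw [h6, Finset.mem_map]
        exact ⟨b, (mem_nb a b).2 hb, rfl⟩
      have h6 : m z ∈ nb (n b) := by
        rw [← hn1, hnbn n hnK hn2 b, Finset.mem_map]
        exact ⟨z, (mem_nb b z).2 hz2, rfl⟩
      have h7 : m z ≠ a := by
        intro h8
        have h9 := hw.1
        rw [h8] at h9
        exact haO b₂ hb₂ h9
      rw [hnbab, Finset.mem_insert, Finset.mem_singleton] at h5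
      rw [Finset.mem_union, Finset.mem_erase, Finset.mem_erase]
      rcases h5 with h8 | h8
      · rw [h8] at h6
        exact Or.inl ⟨h7, h6⟩
      · rw [h8] at h6
        exact Or.inr ⟨h7, h6⟩
    have h4 := Finset.card_le_card h3
    have h5 := Finset.card_union_le ((nb b).erase a) ((nb b').erase a)
    have h6 : (O₂.filter fun c => x c = c).card = fx x O₂ := rfl
    omega
  -- the neighbourhood of `a` is a clique
  have hcl : ∀ c ∈ O₁, ∀ d ∈ O₁, c ≠ d → R c d := by
    intro c hc d hd hcd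
    obtain ⟨m, hm, h1, h2⟩ := h2t b hbO b' hbO' c hc d hd hbb hcd
    rw [← h1, ← h2, hRinv m (M_le a hm)]
    exact hRbb
  have htr : ∀ c d e, R c d → R d e → c = e ∨ R c e := by
    intro c d e h1 h2
    by_cases hce : c = e
    · exact Or.inl hce
    · right
      obtain ⟨k, hk, rfl⟩ := htrans d
      obtain ⟨c, rfl⟩ := k.surjective c
      obtain ⟨e, rfl⟩ := k.surjective e
      have h3 := hsymm _ _ h1
      rw [hRinv k hk] at h2 h3 ⊢
      exact hcl c ((hRa c).1 h3) e ((hRa e).1 h2) fun h4 => hce (by rw [h4])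
  -- the block
  let B : Set Ω := {d | d = a ∨ R a d}
  have hB : IsBlock K B := by
    rw [isBlock_iff_smul_eq_of_nonempty]
    rintro g ⟨e, he1, he2⟩
    -- the equivalence relation
    have key : ∀ c d : Ω, (c = d ∨ R c d) → ∀ f, (f = c ∨ R c f) → (f = d ∨ R d f) := by
      intro c d h1 f h2
      rcases h1 with rfl | h1
      · exact h2
      · rcases h2 with rfl | h2
        · exact Or.inr (hsymm _ _ h1)
        · rcases htr d c f (hsymm _ _ h1) h2 with h3 | h3
          · exact Or.inl h3.symm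
          · exact Or.inr h3
    have hg : ∀ f, f ∈ g • B ↔ (f = (g : Perm Ω) a ∨ R ((g : Perm Ω) a) f) := by
      intro f
      rw [Set.mem_smul_set]
      constructor
      · rintro ⟨f', hf', rfl⟩
        rcases hf' with rfl | hf'
        · exact Or.inl rfl
        · exact Or.inr ((hRinv g.1 g.2 a f').2 hf')
      · intro h1
        obtain ⟨f', rfl⟩ := g.1.surjective f
        refine ⟨f', ?_, rfl⟩
        rcases h1 with h1 | h1
        · exact Or.inl (g.1.injective h1)
        · exact Or.inr ((hRinv g.1 g.2 a f').1 h1)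
    have h1 : (g : Perm Ω) a = a ∨ R ((g : Perm Ω) a) a := by
      have h2 := (hg e).1 he1
      have h3 : e = a ∨ R a e := he2
      have h4 : e = (g : Perm Ω) a ∨ R e ((g : Perm Ω) a) := h2.imp id fun h => hsymm _ _ h
      have h5 : a = e ∨ R e a := h3.imp Eq.symm fun h => hsymm _ _ h
      have h6 := key e ((g : Perm Ω) a) h4 a h5
      exact h6.imp Eq.symm id
    have h2 : a = (g : Perm Ω) a ∨ R a ((g : Perm Ω) a) := h1.imp Eq.symm fun h => hsymm _ _ h
    ext f
    rw [hg]
    constructor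
    · intro h3
      exact key _ _ h1 f h3
    · intro h3
      exact key _ _ h2 f h3
  rcases hprim.isTrivialBlock_of_isBlock hB with h1 | h1
  · exact hb₁ (h1 (Or.inr ((hRa b₁).2 (self_mem_orb a b₁))) (Or.inl rfl))
  · have h2 : b₂ ∈ B := by rw [h1]; exact Set.mem_univ _
    rcases h2 with h2 | h2
    · exact hb₂ h2
    · exact hne ((hRa b₂).1 h2)

end Cfsg.Agent.H35.PrA
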